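import Groth.Prelude.Def_SymTen
import Groth.Agent.ProjLcm70.Graded
import Groth.Agent.Small70.Avoid
import Groth.Agent.DpSpan70.Basic
import Mathlib.RingTheory.Localization.FractionRing
import Mathlib.RingTheory.Ideal.GoingUp
import Mathlib.Algebra.Polynomial.Lifts
import Mathlib.Algebra.MvPolynomial.Basic

/-!
# Symmetric products of `Proj`: covering by symmetric tensors
-/

set_option autoImplicit false
set_option linter.style.haveILetI false

universe u

open scoped TensorProduct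

noncomputable section

namespace Groth.Agent.SymProd70

variable {A B : Type u} [CommRing A] [CommRing B] [Algebra A B] {𝒜 : ℕ → Submodule A B}
  [GradedAlgebra 𝒜] {d : ℕ}

variable (A) in
/-- Pure tensors, multiplicatively. -/
def tp : (Fin d → B) →* (⨂[A] _ : Fin d, B) where
  toFun b := PiTensorProduct.tprod A b
  map_one' := (PiTensorProduct.one_def (R := A) (A := fun _ : Fin d => B)).symm
  map_mul' x y := (PiTensorProduct.tprod_mul_tprod x y).symm

variable (𝒜 d) in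
/-- The Segre product of `d` copies. -/
abbrev segre : Subalgebra A (⨂[A] _ : Fin d, B) :=
  Algebra.adjoin A {t | ∃ (k : ℕ) (b : Fin d → B), (∀ i, b i ∈ 𝒜 k) ∧ t = PiTensorProduct.tprod A b}

theorem tprod_mem_segre {k : ℕ} {b : Fin d → B} (hb : ∀ i, b i ∈ 𝒜 k) :
    PiTensorProduct.tprod A b ∈ segre 𝒜 d :=
  Algebra.subset_adjoin ⟨k, b, hb, rfl⟩

theorem perm_mem_segre (σ : Equiv.Perm (Fin d)) {t : ⨂[A] _ : Fin d, B} (ht : t ∈ segre 𝒜 d) :
    SymTen.perm A B d σ t ∈ segre 𝒜 d := by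
  have : (segre 𝒜 d).map (SymTen.perm A B d σ) ≤ segre 𝒜 d := by
    rw [AlgHom.map_adjoin]
    refine Algebra.adjoin_mono ?_
    rintro _ ⟨_, ⟨k, b, hb, rfl⟩, rfl⟩
    exact ⟨k, fun i => b (σ.symm i), fun i => hb _, SymTen.perm_tprod A B d σ b⟩
  exact this ⟨t, ht, rfl⟩

theorem perm_perm (σ τ : Equiv.Perm (Fin d)) (t : ⨂[A] _ : Fin d, B) :
    SymTen.perm A B d σ (SymTen.perm A B d τ t) = SymTen.perm A B d (σ * τ) t := by
  induction t using PiTensorProduct.induction_on with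
  | smul_tprod r f => simp [Equiv.Perm.mul_def]
  | add x y hx hy => simp only [map_add, hx, hy]

theorem mem_TS_iff_perm (t : ⨂[A] _ : Fin d, B) :
    t ∈ SymTen.TS A B d ↔ ∀ σ, SymTen.perm A B d σ t = t := by
  simp [SymTen.mem_TS_iff, SymTen.perm_apply]

theorem perm_one (t : ⨂[A] _ : Fin d, B) : SymTen.perm A B d 1 t = t := by
  induction t using PiTensorProduct.induction_on with
  | smul_tprod r f => rw [map_smul, SymTen.perm_tprod]; rfl
  | add x y hx hy => rw [map_add, hx, hy]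

open Polynomial in
/-- The Segre product is integral over its symmetric part. -/
theorem isIntegral_segre (D : Subalgebra A (⨂[A] _ : Fin d, B)) (hD : D = segre 𝒜 d ⊓ SymTen.TS A B d)
    (hle : D ≤ segre 𝒜 d) :
    (Subalgebra.inclusion hle).toRingHom.IsIntegral := by
  intro c
  let g : (⨂[A] _ : Fin d, B)[X] := ∏ σ : Equiv.Perm (Fin d), (X - C (SymTen.perm A B d σ c.1))
  have hg : g.Monic := monic_prod_of_monic _ _ fun σ _ => monic_X_sub_C _
  have hcoef : ∀ n, g.coeff n ∈ D := by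
    intro n
    rw [hD, Algebra.mem_inf, mem_TS_iff_perm]
    refine ⟨?_, fun τ => ?_⟩
    · have hg' : g = (∏ σ : Equiv.Perm (Fin d),
          (X - C (⟨_, perm_mem_segre σ c.2⟩ : segre 𝒜 d))).map (segre 𝒜 d).val.toRingHom := by
        simp only [g, Polynomial.map_prod, Polynomial.map_sub, map_X, map_C]
        rfl
      rw [hg', coeff_map]
      exact SetLike.coe_mem _
    · have : g.map (SymTen.perm A B d τ).toRingHom = g := by
        simp only [g, Polynomial.map_prod, Polynomial.map_sub, map_X, map_C]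
        refine Fintype.prod_equiv (Equiv.mulLeft τ) _ _ fun σ => ?_
        congr 2
        exact perm_perm τ σ c.1
      conv_rhs => rw [← this]
      rw [coeff_map]
      rfl
  obtain ⟨q, hq⟩ : g ∈ Polynomial.lifts D.val.toRingHom :=
    (lifts_iff_coeff_lifts g).mpr fun n => ⟨⟨_, hcoef n⟩, rfl⟩
  rw [coe_mapRingHom] at hq
  have hqm : q.Monic := monic_of_injective Subtype.val_injective (hq.symm ▸ hg)
  refine ⟨q, hqm, Subtype.ext ?_⟩
  show (segre 𝒜 d).val.toRingHom _ = 0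
  rw [hom_eval₂]
  have : eval₂ ((segre 𝒜 d).val.toRingHom.comp (Subalgebra.inclusion hle).toRingHom) c.1 q =
      eval c.1 g := by
    rw [← hq, eval_map]
    rfl
  refine this.trans ?_
  rw [eval_prod]
  refine Finset.prod_eq_zero (Finset.mem_univ 1) ?_
  rw [eval_sub, eval_X, eval_C, perm_one, sub_self]

theorem tprod_mem_span {b : Fin d → B} (S : Fin d → Set B) (hb : ∀ i, b i ∈ Submodule.span A (S i)) :
    PiTensorProduct.tprod A b ∈ Submodule.span A
      {t | ∃ x : Fin d → B, (∀ i, x i ∈ S i) ∧ t = PiTensorProduct.tprod A x} := by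
  classical
  choose n f g hfg using fun i => Submodule.mem_span_set'.mp (hb i)
  have : b = fun i => ∑ j, f i j • (g i j : B) := funext fun i => (hfg i).symm
  rw [this, MultilinearMap.map_sum]
  refine sum_mem fun φ _ => ?_
  rw [MultilinearMap.map_smul_univ]
  exact Submodule.smul_mem _ _ (Submodule.subset_span ⟨_, fun i => (g i (φ i)).2, rfl⟩)

theorem le_pow_one (hgen : Algebra.adjoin A (𝒜 1 : Set B) = ⊤) (k : ℕ) : 𝒜 k ≤ 𝒜 1 ^ k := by
  intro b hb
  refine Groth.Agent.ProjLcm70.hom_induction (fun x : 𝒜 1 => (x : B)) (fun _ => 1) (fun x => x.2)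
    (by convert hgen using 2; exact Subtype.range_coe) (fun m a => a ∈ 𝒜 1 ^ m)
    (fun m => zero_mem _) (fun m x y => add_mem) (fun m r x => Submodule.smul_mem _ r)
    (by rw [pow_zero]; exact Submodule.one_le.mp le_rfl) (fun x => by rw [pow_one]; exact x.2)
    (fun i j x y _ _ hx hy => by rw [pow_add]; exact Submodule.mul_mem_mul hx hy) k b hb

section character

variable {L : Type u} [Field L] [Algebra A L] (χ : segre 𝒜 d →ₐ[A] L)

/-- A character evaluated at a pure tensor. -/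
def ev (k : ℕ) (b : Fin d → B) (hb : ∀ i, b i ∈ 𝒜 k) : L := χ ⟨_, tprod_mem_segre hb⟩

theorem ev_congr {k : ℕ} {b b' : Fin d → B} (h : b = b') (hb : ∀ i, b i ∈ 𝒜 k) :
    ev χ k b hb = ev χ k b' (h ▸ hb) := by subst h; rfl

theorem ev_mul {k l : ℕ} {b b' : Fin d → B} (hb : ∀ i, b i ∈ 𝒜 k) (hb' : ∀ i, b' i ∈ 𝒜 l) :
    ev χ (k + l) (b * b') (fun i => SetLike.mul_mem_graded (hb i) (hb' i)) = ev χ k b hb * ev χ l b' hb' := by
  rw [ev, ev, ev, ← map_mul]
  exact congrArg χ (Subtype.ext (PiTensorProduct.tprod_mul_tprod b b').symm)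

theorem ev_eq_zero_of_degree_one (hgen : Algebra.adjoin A (𝒜 1 : Set B) = ⊤)
    (h : ∀ (b : Fin d → B) (hb : ∀ i, b i ∈ 𝒜 1), ev χ 1 b hb = 0) {k : ℕ} (hk : 0 < k)
    (b : Fin d → B) (hb : ∀ i, b i ∈ 𝒜 k) : ev χ k b hb = 0 := by
  classical
  obtain ⟨m, rfl⟩ := Nat.exists_eq_add_of_le (Nat.succ_le_of_lt hk)
  have hspan : ∀ i, b i ∈ Submodule.span A {z | ∃ x ∈ 𝒜 1, ∃ y ∈ 𝒜 m, x * y = z} := fun i => by
    have h1 := le_pow_one hgen _ (hb i)
    rw [Nat.succ_eq_add_one, Nat.zero_add, pow_add, pow_one] at h1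
    have h2 := mul_le_mul' (le_refl (𝒜 1)) ((Groth.Agent.ProjLcm70.pow_le_graded 1 m).trans_eq
      (by rw [Nat.mul_one])) h1
    clear h1
    revert h2
    generalize b i = z
    intro h2
    induction h2 using Submodule.mul_induction_on' with
    | mem_mul_mem x hx y hy => exact Submodule.subset_span ⟨x, hx, y, hy, rfl⟩
    | add x _ y _ hx hy => exact add_mem hx hy
  have hmem := tprod_mem_span _ hspan
  suffices ∀ t ∈ Submodule.span A {t | ∃ x : Fin d → B, (∀ i, x i ∈ {z | ∃ x ∈ 𝒜 1, ∃ y ∈ 𝒜 m, x * y = z}) ∧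
      t = PiTensorProduct.tprod A x}, ∀ ht : t ∈ segre 𝒜 d, χ ⟨t, ht⟩ = 0 from this _ hmem _
  intro t ht
  suffices ∃ ht : t ∈ segre 𝒜 d, χ ⟨t, ht⟩ = 0 from fun _ => this.2
  induction ht using Submodule.span_induction with
  | mem t ht =>
    obtain ⟨x, hx, rfl⟩ := ht
    choose u hu v hv huv using hx
    have hxm : ∀ i, x i ∈ 𝒜 (1 + m) := fun i => huv i ▸ SetLike.mul_mem_graded (hu i) (hv i)
    refine ⟨tprod_mem_segre hxm, ?_⟩
    show ev χ (1 + m) x hxm = 0
    rw [ev_congr χ (show x = u * v from funext fun i => (huv i).symm), ev_mul χ hu hv, h u hu, zero_mul]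
  | zero => exact ⟨zero_mem _, map_zero χ⟩
  | add a c _ _ ha hc =>
    refine ⟨add_mem ha.1 hc.1, ?_⟩
    show χ (⟨a, ha.1⟩ + ⟨c, hc.1⟩) = 0
    rw [map_add, ha.2, hc.2, add_zero]
  | smul r a _ ha =>
    refine ⟨Subalgebra.smul_mem _ ha.1 r, ?_⟩
    show χ (r • ⟨a, ha.1⟩) = 0
    rw [map_smul, ha.2, smul_zero]

variable {a : Fin d → B}

theorem pow_mem (ha : ∀ i, a i ∈ 𝒜 1) (n : ℕ) (i : Fin d) : (a ^ n) i ∈ 𝒜 n := by
  simpa using SetLike.pow_mem_graded n (ha i)

theorem update_mem (ha : ∀ i, a i ∈ 𝒜 1) (n : ℕ) (i : Fin d) {b : B} (hb : b ∈ 𝒜 n) (j : Fin d) :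
    Function.update (a ^ n) i b j ∈ 𝒜 n := by
  rcases eq_or_ne j i with rfl | h
  · rwa [Function.update_self]
  · rw [Function.update_of_ne h]; exact pow_mem ha n j

/-- The `i`-th coordinate of a character with `χ (a₁ ⊗ ⋯ ⊗ a_d) ≠ 0`, in degree `n`. -/
def coord (ha : ∀ i, a i ∈ 𝒜 1) (i : Fin d) (n : ℕ) : 𝒜 n →ₗ[A] L where
  toFun b := ev χ n (Function.update (a ^ n) i b) (update_mem ha n i b.2) * (ev χ 1 a ha ^ n)⁻¹
  map_add' b c := by
    simp only [ev]
    rw [← add_mul, ← map_add]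
    exact congrArg (fun t => χ t * _) (Subtype.ext (MultilinearMap.map_update_add _ _ _ _ _))
  map_smul' r b := by
    simp only [ev]
    rw [RingHom.id_apply, ← smul_mul_assoc, ← map_smul]
    exact congrArg (fun t => χ t * _) (Subtype.ext (MultilinearMap.map_update_smul _ _ _ _ _))

variable {χ} (ha : ∀ i, a i ∈ 𝒜 1) (hu : ev χ 1 a ha ≠ 0)

theorem coord_mul (i : Fin d) {n m : ℕ} {b c : B} (hb : b ∈ 𝒜 n) (hc : c ∈ 𝒜 m) :
    coord χ ha i (n + m) ⟨b * c, SetLike.mul_mem_graded hb hc⟩ =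
      coord χ ha i n ⟨b, hb⟩ * coord χ ha i m ⟨c, hc⟩ := by
  show ev χ _ _ _ * _ = ev χ _ _ _ * _ * (ev χ _ _ _ * _)
  rw [ev_congr χ (show Function.update (a ^ (n + m)) i (b * c) =
    Function.update (a ^ n) i b * Function.update (a ^ m) i c from by
      rw [pow_add, Pi.mul_def, Pi.mul_def]
      funext j
      rcases eq_or_ne j i with rfl | h
      · simp
      · simp [Function.update_of_ne h]), ev_mul χ (update_mem ha n i hb) (update_mem ha m i hc), pow_add, mul_inv]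
  exact mul_mul_mul_comm _ _ _ _

theorem coord_congr (i : Fin d) {n m : ℕ} {b c : B} (hb : b ∈ 𝒜 n) (hc : c ∈ 𝒜 m) (h : n = m)
    (h' : b = c) : coord χ ha i n ⟨b, hb⟩ = coord χ ha i m ⟨c, hc⟩ := by
  subst h h'; rfl

include hu in
theorem coord_self (i : Fin d) (n : ℕ) : coord χ ha i n ⟨(a ^ n) i, pow_mem ha n i⟩ = 1 := by
  show ev χ _ _ _ * _ = 1
  have hpow : ∀ n, ev χ n (a ^ n) (pow_mem ha n) = ev χ 1 a ha ^ n := by
    intro n
    induction n with
    | zero =>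
      rw [pow_zero (M := L), ← map_one χ]
      exact congrArg χ (Subtype.ext ((congrArg (PiTensorProduct.tprod A) (pow_zero a)).trans (tp A).map_one))
    | succ n ih =>
      rw [ev_congr χ (pow_succ a n), pow_succ (ev χ 1 a ha), ← ih]
      exact ev_mul χ (pow_mem ha n) ha
  rw [ev_congr χ (Function.update_eq_self i (a ^ n)), hpow, mul_inv_cancel₀ (pow_ne_zero _ hu)]

include hu in
theorem coord_pow (i : Fin d) {n : ℕ} {b : B} (hb : b ∈ 𝒜 n) (m : ℕ) :
    coord χ ha i (m * n) ⟨b ^ m, by simpa using SetLike.pow_mem_graded m hb⟩ = coord χ ha i n ⟨b, hb⟩ ^ m := by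
  induction m with
  | zero =>
    rw [pow_zero (M := L)]
    refine Eq.trans ?_ (coord_self ha hu i 0)
    exact coord_congr ha i _ _ (by simp) (by simp)
  | succ m ih =>
    rw [pow_succ (M := L), ← ih, ← coord_mul ha i]
    exact coord_congr ha i _ _ (Nat.succ_mul _ _) (pow_succ _ _)

include hu in
theorem ev_eq_prod (n : ℕ) (b : Fin d → B) (hb : ∀ i, b i ∈ 𝒜 n) :
    ev χ n b hb = ev χ 1 a ha ^ n * ∏ i, coord χ ha i n ⟨b i, hb i⟩ := by
  classical
  rcases Nat.eq_zero_or_pos d with rfl | hd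
  · rw [Finset.univ_eq_empty, Finset.prod_empty, mul_one]
    have h1 : ∀ (k : ℕ) (c : Fin 0 → B) hc, ev χ k c hc = 1 := fun k c hc => by
      rw [← map_one χ, ev]
      refine congrArg χ (Subtype.ext ?_)
      exact (congrArg (PiTensorProduct.tprod A) (Subsingleton.elim c 1)).trans (tp A).map_one
    rw [h1, h1, one_pow]
  let up : Fin d → segre 𝒜 d := fun i => ⟨_, tprod_mem_segre (update_mem ha n i (hb i))⟩
  let an : segre 𝒜 d := ⟨_, tprod_mem_segre (pow_mem ha n)⟩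
  have hprod : ∏ i, up i = ⟨_, tprod_mem_segre hb⟩ * an ^ (d - 1) := by
    refine Subtype.ext ?_
    rw [Subalgebra.coe_mul, Subalgebra.coe_pow]
    refine (map_prod (segre 𝒜 d).val up Finset.univ).trans ?_
    show ∏ i, tp A (Function.update (a ^ n) i (b i)) = tp A b * tp A (a ^ n) ^ (d - 1)
    rw [← map_prod, ← map_pow, ← map_mul]
    congr 1
    funext j
    rw [Finset.prod_apply, Pi.mul_apply, Pi.pow_apply, Fintype.prod_eq_mul_prod_compl j,
      Function.update_self]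
    congr 1
    rw [Finset.prod_congr rfl fun i hi => Function.update_of_ne (show j ≠ i by simpa [eq_comm] using hi) (b i) (a ^ n),
      Finset.prod_const, Finset.card_compl, Finset.card_singleton, Fintype.card_fin]
  have han : χ an = ev χ 1 a ha ^ n := by
    have := coord_self (χ := χ) ha hu ⟨0, hd⟩ n
    change ev χ _ _ _ * _ = 1 at this
    rw [ev_congr χ (Function.update_eq_self _ (a ^ n))] at this
    exact (eq_inv_of_mul_eq_one_left this).trans (inv_inv _)
  have h2 := congrArg χ hprod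
  rw [map_prod, map_mul, map_pow, han] at h2
  show _ = _ * ∏ i, (χ (up i) * (ev χ 1 a ha ^ n)⁻¹)
  rw [Finset.prod_mul_distrib, h2, Finset.prod_const, Finset.card_univ, Fintype.card_fin, inv_pow]
  have hne : ev χ 1 a ha ^ n ≠ 0 := pow_ne_zero _ hu
  obtain ⟨e, he⟩ : ∃ e, d = e + 1 := ⟨d - 1, by omega⟩
  rw [show d - 1 = e by omega, show ((ev χ 1 a ha ^ n) ^ d)⁻¹ = ((ev χ 1 a ha ^ n) ^ e * ev χ 1 a ha ^ n)⁻¹ by
    rw [← pow_succ]; congr 2]
  show ev χ n b hb = ev χ 1 a ha ^ n * (ev χ n b hb * (ev χ 1 a ha ^ n) ^ e * _)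
  field_simp

include hu in
/-- A homogeneous element on which no coordinate vanishes. -/
theorem exists_coord_ne_zero : ∀ (m : ℕ) (s : Finset (Fin d)), s.card = m →
    ∃ (n : ℕ) (f : B) (hf : f ∈ 𝒜 n), 0 < n ∧ ∀ i ∈ s, coord χ ha i n ⟨f, hf⟩ ≠ 0 := by
  classical
  intro m
  induction m using Nat.strong_induction_on with
  | _ m ih =>
    intro s hs
    rcases s.eq_empty_or_nonempty with rfl | ⟨j, hj⟩
    · exact ⟨1, 0, zero_mem _, one_pos, by simp⟩
    obtain ⟨n, f, hf, hn, hfs⟩ := ih (s.erase j).card (hs ▸ Finset.card_erase_lt_of_mem hj) _ rfl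
    by_cases hfj : coord χ ha j n ⟨f, hf⟩ = 0
    swap
    · exact ⟨n, f, hf, hn, fun i hi => if h : i = j then h ▸ hfj else hfs i (Finset.mem_erase.mpr ⟨h, hi⟩)⟩
    -- separate `j` from each other coordinate, or discard a coordinate
    by_cases hsep : ∀ i ∈ s.erase j, ∃ (k : ℕ) (g : B) (hg : g ∈ 𝒜 k),
        coord χ ha i k ⟨g, hg⟩ = 0 ∧ coord χ ha j k ⟨g, hg⟩ ≠ 0
    · obtain ⟨k, g, hg, hk, hgs, hgj⟩ : ∃ (k : ℕ) (g : B) (hg : g ∈ 𝒜 k), 0 < k ∧
          (∀ i ∈ s.erase j, coord χ ha i k ⟨g, hg⟩ = 0) ∧ coord χ ha j k ⟨g, hg⟩ ≠ 0 := by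
        suffices ∀ t : Finset (Fin d), (∀ i ∈ t, ∃ (k : ℕ) (g : B) (hg : g ∈ 𝒜 k),
            coord χ ha i k ⟨g, hg⟩ = 0 ∧ coord χ ha j k ⟨g, hg⟩ ≠ 0) →
            ∃ (k : ℕ) (g : B) (hg : g ∈ 𝒜 k), 0 < k ∧
              (∀ i ∈ t, coord χ ha i k ⟨g, hg⟩ = 0) ∧ coord χ ha j k ⟨g, hg⟩ ≠ 0 from this _ hsep
        intro t
        induction t using Finset.induction with
        | empty =>
          intro _
          refine ⟨1, (a ^ 1) j, pow_mem ha 1 j, one_pos, by simp, ?_⟩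
          rw [coord_self ha hu]; exact one_ne_zero
        | insert i t hi iht =>
          intro h
          obtain ⟨k, g, hg, hk, hgt, hgj⟩ := iht fun i' hi' => h i' (Finset.mem_insert_of_mem hi')
          obtain ⟨k', g', hg', hgi, hgj'⟩ := h i (Finset.mem_insert_self _ _)
          refine ⟨k + k', g * g', SetLike.mul_mem_graded hg hg', by omega, fun i' hi' => ?_, ?_⟩
          · rw [coord_mul ha i' hg hg']
            rcases Finset.mem_insert.mp hi' with rfl | h'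
            · rw [hgi, mul_zero]
            · rw [hgt i' h', zero_mul]
          · rw [coord_mul ha j hg hg']; exact mul_ne_zero hgj hgj'
      have hfk : f ^ k ∈ 𝒜 (k * n) := by simpa using SetLike.pow_mem_graded k hf
      have hgn : g ^ n ∈ 𝒜 (k * n) := by simpa [mul_comm] using SetLike.pow_mem_graded n hg
      refine ⟨k * n, f ^ k + g ^ n, add_mem hfk hgn, Nat.mul_pos hk hn, fun i hi => ?_⟩
      rw [show (⟨f ^ k + g ^ n, add_mem hfk hgn⟩ : 𝒜 (k * n)) = ⟨f ^ k, hfk⟩ + ⟨g ^ n, hgn⟩ from rfl,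
        map_add, coord_pow ha hu i hf k]
      have e : coord χ ha i (k * n) ⟨g ^ n, hgn⟩ = coord χ ha i k ⟨g, hg⟩ ^ n := by
        rw [← coord_pow ha hu i hg n]
        exact coord_congr ha i _ _ (mul_comm _ _) rfl
      rw [e]
      by_cases h : i = j
      · subst h
        rw [hfj, zero_pow hk.ne', zero_add]
        exact pow_ne_zero _ hgj
      · rw [hgs i (Finset.mem_erase.mpr ⟨h, hi⟩), zero_pow hn.ne', add_zero]
        exact pow_ne_zero _ (hfs i (Finset.mem_erase.mpr ⟨h, hi⟩))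
    · push Not at hsep
      obtain ⟨i, hi, hsep⟩ := hsep
      obtain ⟨n', f', hf', hn', hfs'⟩ := ih (s.erase i).card
        (hs ▸ Finset.card_erase_lt_of_mem (Finset.mem_of_mem_erase hi)) _ rfl
      refine ⟨n', f', hf', hn', fun l hl => if h : l = i then ?_ else hfs' l (Finset.mem_erase.mpr ⟨h, hl⟩)⟩
      subst h
      exact fun h0 => hfs' j (Finset.mem_erase.mpr ⟨(Finset.ne_of_mem_erase hi).symm, hj⟩) (hsep n' f' hf' h0)

include hu in
theorem exists_tpow_ne_zero : ∃ (n : ℕ) (f : B) (hf : f ∈ 𝒜 n), 0 < n ∧ ev χ n (fun _ => f) (fun _ => hf) ≠ 0 := by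
  obtain ⟨n, f, hf, hn, h⟩ := exists_coord_ne_zero ha hu _ Finset.univ rfl
  refine ⟨n, f, hf, hn, ?_⟩
  rw [ev_eq_prod ha hu]
  exact mul_ne_zero (pow_ne_zero _ hu) (Finset.prod_ne_zero_iff.mpr fun i hi => h i hi)

include hu in
theorem exists_tpow_degree_one_ne_zero
    (hres : ∀ p : PrimeSpectrum A, (d : Cardinal) ≤ Cardinal.mk p.asIdeal.ResidueField) :
    ∃ (f : B) (hf : f ∈ 𝒜 1), ev χ 1 (fun _ => f) (fun _ => hf) ≠ 0 := by
  classical
  let p : PrimeSpectrum A := ⟨RingHom.ker (algebraMap A L), RingHom.ker_isPrime _⟩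
  haveI := p.isPrime
  obtain ⟨v, hv⟩ := DpSpan70.exists_injective_quotient p.asIdeal d (hres p)
  obtain ⟨f, hf⟩ := Groth.Agent.Small70.exists_avoid (fun i => LinearMap.ker (coord χ ha i 1)) Finset.univ
    (fun i _ => ⟨⟨(a ^ 1) i, pow_mem ha 1 i⟩, by
      rw [LinearMap.mem_ker, coord_self ha hu]; exact one_ne_zero⟩)
    (κ := ULift.{u} (Fin d)) (fun x => Quotient.out (v x.down))
    (fun i _ x y hxy m hm => by
      rw [LinearMap.mem_ker, map_smul, Algebra.smul_def] at hm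
      refine LinearMap.mem_ker.mpr ((mul_eq_zero.mp hm).resolve_left fun h => hxy ?_)
      have h' : Quotient.out (v x.down) - Quotient.out (v y.down) ∈ p.asIdeal := h
      rw [← Ideal.Quotient.eq] at h'
      exact ULift.down_injective (hv (by rwa [Ideal.Quotient.mk_out, Ideal.Quotient.mk_out] at h')))
    (by simp)
  refine ⟨f, f.2, ?_⟩
  rw [ev_eq_prod ha hu]
  exact mul_ne_zero (pow_ne_zero _ hu) (Finset.prod_ne_zero_iff.mpr fun i hi => hf i hi)

include hu in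
open MvPolynomial in
theorem exists_symmetric_ne_zero :
    ∃ t, ∃ ht : t ∈ segre 𝒜 d, t ∈ SymTen.TS A B d ∧
      t ∈ Submodule.span A {s | ∃ b : Fin d → B, (∀ i, b i ∈ 𝒜 1) ∧ s = PiTensorProduct.tprod A b} ∧
      χ ⟨t, ht⟩ ≠ 0 := by
  classical
  let cnt : (Fin d → Fin d) → (Fin d →₀ ℕ) := fun φ => ∑ i, Finsupp.single (φ i) 1
  let P : MvPolynomial (Fin d) L :=
    ∑ φ : Fin d → Fin d, monomial (cnt φ) (∏ i, coord χ ha i 1 ⟨a (φ i), ha _⟩)
  have hP : P = ∏ i, ∑ l : Fin d, monomial (Finsupp.single l 1) (coord χ ha i 1 ⟨a l, ha l⟩) := by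
    rw [Finset.prod_univ_sum, Fintype.piFinset_univ]
    refine Finset.sum_congr rfl fun φ _ => ?_
    exact monomial_sum_prod _ (fun i => Finsupp.single (φ i) 1) _
  have hPne : P ≠ 0 := by
    rw [hP, Finset.prod_ne_zero_iff]
    intro i _ h
    have h' := congrArg (coeff (Finsupp.single i 1)) h
    rw [coeff_sum, coeff_zero, Finset.sum_eq_single i (fun l _ hl => by
      rw [coeff_monomial, if_neg]
      intro e
      exact hl (Finsupp.single_left_injective one_ne_zero e)) (fun h => absurd (Finset.mem_univ i) h),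
      coeff_monomial, if_pos rfl] at h'
    have h1 := coord_self (χ := χ) ha hu i 1
    simp only [Pi.pow_apply, pow_one] at h1
    exact one_ne_zero (h1.symm.trans h')
  obtain ⟨α, hα⟩ := ne_zero_iff.mp hPne
  let F := Finset.univ.filter fun φ : Fin d → Fin d => cnt φ = α
  let x : (Fin d → Fin d) → segre 𝒜 d := fun φ => ⟨_, tprod_mem_segre (fun i => ha (φ i))⟩
  refine ⟨_, (∑ φ ∈ F, x φ).2, ?_, ?_, ?_⟩
  · rw [mem_TS_iff_perm]
    intro σ
    rw [AddSubmonoidClass.coe_finsetSum, map_sum]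
    refine Finset.sum_equiv (Equiv.arrowCongr σ (Equiv.refl _)) (fun φ => ?_) (fun φ _ => ?_)
    · have : cnt (Equiv.arrowCongr σ (Equiv.refl _) φ) = cnt φ := by
        simp only [cnt]
        exact Fintype.sum_equiv σ.symm _ _ fun i => rfl
      simp [F, this]
    · show SymTen.perm A B d σ (PiTensorProduct.tprod A fun i => a (φ i)) = _
      rw [SymTen.perm_tprod]
      rfl
  · rw [AddSubmonoidClass.coe_finsetSum]
    exact sum_mem fun φ _ => Submodule.subset_span ⟨_, fun i => ha (φ i), rfl⟩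
  · show χ (∑ φ ∈ F, x φ) ≠ 0
    have e : χ (∑ φ ∈ F, x φ) = ev χ 1 a ha * coeff α P := by
      rw [map_sum, coeff_sum]
      simp only [coeff_monomial]
      rw [← Finset.sum_filter, Finset.mul_sum]
      refine Finset.sum_congr rfl fun φ _ => ?_
      have := ev_eq_prod (χ := χ) ha hu 1 (fun i => a (φ i)) (fun i => ha _)
      rwa [pow_one] at this
    rw [e]
    exact mul_ne_zero hu hα

end character

theorem exists_pow_mem_span (hgen : Algebra.adjoin A (𝒜 1 : Set B) = ⊤)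
    (D : Subalgebra A (⨂[A] _ : Fin d, B)) (hD : D = segre 𝒜 d ⊓ SymTen.TS A B d)
    (G : Set D)
    (hG : ∀ (L : Type u) [Field L] [Algebra A L] (χ : segre 𝒜 d →ₐ[A] L) (a : Fin d → B)
      (ha : ∀ i, a i ∈ 𝒜 1), ev χ 1 a ha ≠ 0 →
      ∃ x ∈ G, ∃ hx : (x : ⨂[A] _ : Fin d, B) ∈ segre 𝒜 d, χ ⟨x, hx⟩ ≠ 0)
    (k : ℕ) (hk : 0 < k) (t : ⨂[A] _ : Fin d, B) (htD : t ∈ D)
    (htk : t ∈ Submodule.span A {s | ∃ b : Fin d → B, (∀ i, b i ∈ 𝒜 k) ∧ s = PiTensorProduct.tprod A b}) :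
    ∃ m : ℕ, 0 < m ∧ (⟨t, htD⟩ : D) ^ m ∈ Ideal.span G := by
  suffices h : (⟨t, htD⟩ : D) ∈ (Ideal.span G).radical by
    obtain ⟨m, hm⟩ := h
    exact ⟨m + 1, Nat.succ_pos m, by rw [pow_succ]; exact Ideal.mul_mem_right _ _ hm⟩
  rw [Ideal.radical_eq_sInf, Ideal.mem_sInf]
  rintro P ⟨hP, hPprime⟩
  by_contra htP
  have hle : D ≤ segre 𝒜 d := hD ▸ inf_le_left
  letI : Algebra D (segre 𝒜 d) := (Subalgebra.inclusion hle).toRingHom.toAlgebra
  haveI : Algebra.IsIntegral D (segre 𝒜 d) := ⟨isIntegral_segre D hD hle⟩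
  haveI := hPprime
  have hker : RingHom.ker (algebraMap D (segre 𝒜 d)) ≤ P :=
    ((RingHom.injective_iff_ker_eq_bot _).mp (Subalgebra.inclusion_injective hle)).le.trans bot_le
  obtain ⟨Q, -, hQ, hQP⟩ := Ideal.exists_ideal_over_prime_of_isIntegral P ⊥ hker
  haveI := hQ
  let χ : segre 𝒜 d →ₐ[A] FractionRing (segre 𝒜 d ⧸ Q) :=
    (IsScalarTower.toAlgHom A (segre 𝒜 d ⧸ Q) (FractionRing (segre 𝒜 d ⧸ Q))).comp (Ideal.Quotient.mkₐ A Q)
  have hχ : ∀ (x : D), x ∈ P ↔ χ ⟨x, hle x.2⟩ = 0 := fun x => by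
    rw [← hQP, Ideal.mem_comap, ← Ideal.Quotient.eq_zero_iff_mem]
    exact (map_eq_zero_iff _ (IsFractionRing.injective _ _)).symm
  obtain ⟨a, ha, hu⟩ : ∃ (a : Fin d → B) (ha : ∀ i, a i ∈ 𝒜 1), ev χ 1 a ha ≠ 0 := by
    by_contra h
    push Not at h
    refine htP ((hχ ⟨t, htD⟩).mpr ?_)
    suffices ∀ s ∈ Submodule.span A {s | ∃ b : Fin d → B, (∀ i, b i ∈ 𝒜 k) ∧ s = PiTensorProduct.tprod A b},
      ∃ hs : s ∈ segre 𝒜 d, χ ⟨s, hs⟩ = 0 from (this t htk).2
    intro s hs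
    induction hs using Submodule.span_induction with
    | mem s hs =>
      obtain ⟨b, hb, rfl⟩ := hs
      exact ⟨tprod_mem_segre hb, ev_eq_zero_of_degree_one χ hgen h hk b hb⟩
    | zero => exact ⟨zero_mem _, map_zero χ⟩
    | add x y _ _ hx hy =>
      exact ⟨add_mem hx.1 hy.1, (map_add χ ⟨x, hx.1⟩ ⟨y, hy.1⟩).trans (by rw [hx.2, hy.2, add_zero])⟩
    | smul r x _ hx =>
      exact ⟨Subalgebra.smul_mem _ hx.1 r, (map_smul χ r ⟨x, hx.1⟩).trans (by rw [hx.2, smul_zero])⟩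
  obtain ⟨x, hxG, hx, hne⟩ := hG _ χ a ha hu
  exact hne ((hχ x).mp (hP (Ideal.subset_span hxG)))

end Groth.Agent.SymProd70

end
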